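import Groth.Agent.CAlgH.RegImmLocal
import Groth.Agent.RegCancelH2.Exchange

/-! Regular ideals, split along an ideal with `P ∩ 𝔪 K = 𝔪 P`. -/

set_option autoImplicit false
set_option backward.isDefEq.respectTransparency false
universe u

open IsLocalRing RingTheory.Sequence CategoryTheory AlgebraicGeometry

namespace Groth.Agent.RegTfae28

theorem span_range_append {A : Type u} [CommRing A] {r s : ℕ} (a : Fin r → A) (b : Fin s → A) :
    Ideal.span (Set.range (Fin.append a b)) = Ideal.span (Set.range a) ⊔ Ideal.span (Set.range b) := by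
  refine le_antisymm (Ideal.span_le.2 ?_) (sup_le (Ideal.span_le.2 ?_) (Ideal.span_le.2 ?_))
  · rintro _ ⟨i, rfl⟩
    induction i using Fin.addCases with
    | left i => rw [Fin.append_left]; exact Submodule.mem_sup_left (Ideal.subset_span ⟨i, rfl⟩)
    | right i => rw [Fin.append_right]; exact Submodule.mem_sup_right (Ideal.subset_span ⟨i, rfl⟩)
  · rintro _ ⟨i, rfl⟩
    exact Ideal.subset_span ⟨Fin.castAdd s i, Fin.append_left _ _ _⟩
  · rintro _ ⟨i, rfl⟩
    exact Ideal.subset_span ⟨Fin.natAdd r i, Fin.append_right _ _ _⟩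

theorem isRegularIdeal_of_inter {A B : Type u} [CommRing A] [IsLocalRing A] [IsNoetherianRing A]
    [CommRing B] [IsLocalRing B] (π : A →+* B) (hπ : Function.Surjective π) (G : Ideal B) (hG : G ≠ ⊤)
    (hK : CInt.IsRegularIdeal (G.comap π))
    (hinter : ∀ w ∈ RingHom.ker π, w ∈ maximalIdeal A * G.comap π → w ∈ maximalIdeal A * RingHom.ker π) :
    CInt.IsRegularIdeal (RingHom.ker π) ∧ CInt.IsRegularIdeal G := by
  obtain ⟨ks, hks, hksK⟩ := hK
  have hksI : Ideal.span (Set.range ks.get) = G.comap π := by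
    rw [← hksK, ← CAlgH.RegImmLocal.ofList_ofFn', List.ofFn_get]
  have hle : RingHom.ker π ≤ G.comap π := fun x hx => by
    rw [Ideal.mem_comap, RingHom.mem_ker.1 hx]; exact zero_mem _
  have hKm : G.comap π ≤ maximalIdeal A := le_maximalIdeal (fun h => hG (Ideal.comap_eq_top_iff.1 h))
  obtain ⟨r, f, a, ha, hfJ, hspan, hind⟩ := RegCancelH2.exists_indep_family (RingHom.ker π) (maximalIdeal A)
    (IsNoetherian.noetherian _)
  have haU : IsUnit a := IsLocalRing.notMem_maximalIdeal.1 ha
  have hP : Ideal.span (Set.range f) = RingHom.ker π :=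
    le_antisymm (Ideal.span_le.2 (Set.range_subset_iff.2 hfJ))
      fun y hy => (Ideal.unit_mul_mem_iff_mem _ haU).1 (hspan y hy)
  obtain ⟨s, l, d, hsr, hd, hl, hcomp⟩ := RegCancelH2.exists_complete (P := maximalIdeal A) ks.get f
    (fun q => hksI.symm ▸ hle (hfJ q)) fun c hc => hind c (hinter _
      (Ideal.sum_mem _ fun q _ => Ideal.mul_mem_left _ _ (hfJ q)) (hksI ▸ hc))
  have hspanK : Ideal.span (Set.range f) ⊔ Ideal.span (Set.range l) = G.comap π := by
    have h := hcomp (RingHom.id A) (IsLocalRing.notMem_maximalIdeal.1 hd)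
    simp only [RingHom.id_apply, Ideal.map_id, hksI] at h
    rw [sup_comm, ← span_range_append]
    exact h
  have hlK : ∀ t, l t ∈ G.comap π := fun t => hksI ▸ hl t
  let F : Fin ks.length → A := fun i => Fin.append f l (i.cast (by omega))
  have hF : Set.range F = Set.range (Fin.append f l) := (finCongr (by omega)).surjective.range_comp (Fin.append f l)
  have hFl : List.ofFn F = List.ofFn f ++ List.ofFn l := by
    rw [← List.ofFn_fin_append, List.ofFn_congr (by omega : ks.length = r + s) F]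
    rfl
  have hreg : IsWeaklyRegular A (List.ofFn F) :=
    CAlgH.RegImmLocal.isWeaklyRegular_of_span (g := ks.get) (by rw [List.ofFn_get]; exact hks.toIsWeaklyRegular)
      (by rw [hksI, hF, span_range_append, hspanK]) fun i => by
        refine hKm (hspanK.le ?_)
        rw [← span_range_append, ← hF]
        exact Ideal.subset_span ⟨i, rfl⟩
  rw [hFl, isWeaklyRegular_append_iff] at hreg
  refine ⟨⟨List.ofFn f, CAlgH.RegImmLocal.isRegular_of_mem_maximal hreg.1 fun x hx => ?_, ?_⟩,
    ⟨(List.ofFn l).map π, ⟨?_, ?_⟩, ?_⟩⟩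
  · obtain ⟨q, rfl⟩ := List.mem_ofFn.1 hx
    exact hKm (hle (hfJ q))
  · rw [CAlgH.RegImmLocal.ofList_ofFn', hP]
  · letI := π.toAlgebra
    have hsm : Ideal.ofList (List.ofFn f) • (⊤ : Submodule A A) = RingHom.ker (Algebra.ofId A B) := by
      rw [smul_eq_mul, Ideal.mul_top, CAlgH.RegImmLocal.ofList_ofFn', hP]; rfl
    let e : (A ⧸ (Ideal.ofList (List.ofFn f) • (⊤ : Submodule A A))) ≃ₗ[A] B :=
      (Submodule.quotEquivOfEq _ _ hsm).trans
        (Ideal.quotientKerAlgEquivOfSurjective (f := Algebra.ofId A B) hπ).toLinearEquiv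
    show IsWeaklyRegular B ((List.ofFn l).map (algebraMap A B))
    rw [isWeaklyRegular_map_algebraMap_iff B B, ← e.isWeaklyRegular_congr]
    exact hreg.2
  · rw [smul_eq_mul, Ideal.mul_top]
    intro htop
    refine hG (top_le_iff.1 (htop.le.trans (Ideal.span_le.2 fun x hx => ?_)))
    obtain ⟨y, hy, rfl⟩ := List.mem_map.1 hx
    obtain ⟨t, rfl⟩ := List.mem_ofFn.1 hy
    exact hlK t
  · rw [← Ideal.map_ofList, CAlgH.RegImmLocal.ofList_ofFn']
    have h1 : (Ideal.span (Set.range f)).map π = ⊥ := by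
      rw [hP, ← le_bot_iff, Ideal.map_le_iff_le_comap]
      exact le_of_eq rfl
    rw [← Ideal.map_comap_of_surjective π hπ G, ← hspanK, Ideal.map_sup, h1, bot_sup_eq]

end Groth.Agent.RegTfae28
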