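import Groth.Agent.SDiv28.RegularSpread
import Groth.Agent.CAlgH.RegImmLocal
import Groth.Agent.CAlgH.CIPresentation
import Groth.Agent.CAlgH.KoszulDescentScheme
import Groth.Agent.RegImmH1.Conormal

/-! Regularity of an immersion at a point, read off the stalk. -/

set_option autoImplicit false
set_option backward.isDefEq.respectTransparency.types false
set_option backward.isDefEq.respectTransparency false
set_option linter.style.haveILetI false
universe u

open CategoryTheory AlgebraicGeometry IsLocalRing RingTheory.Sequence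

noncomputable section

namespace Groth.Agent.RegTfae28

open Thick15 Omega15

variable {Z X : Scheme.{u}}

theorem isIso_tm {P Q : Scheme.{u}} (f : P ⟶ Q) [IsOpenImmersion f] {x : P} {y : Q} (h : f x = y) :
    IsIso (tm f h) := by
  subst h
  rw [tm_self]
  infer_instance

theorem isRegularImmersionAt_iff [IsLocallyNoetherian X] (i : Z ⟶ X) [IsImmersion i] (z : Z) :
    RegImm.IsRegularImmersionAt RegImm.Kind.regular i z ↔
      CInt.IsRegularIdeal (RingHom.ker (i.stalkMap z).hom) := by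
  constructor
  · rintro ⟨⟨U, hU⟩, hz, hc, rs, hrs, hker⟩
    haveI : IsClosedImmersion (i ∣_ U) := hc
    let := X.presheaf.algebra_section_stalk ⟨i z, hz⟩
    have := hU.isLocalization_stalk ⟨i z, hz⟩
    have : Module.Flat Γ(X, U) (X.presheaf.stalk (i z)) :=
      IsLocalization.flat _ (hU.primeIdealOf ⟨i z, hz⟩).asIdeal.primeCompl
    have hk : RingHom.ker (i.stalkMap z).hom = Ideal.ofList (rs.map (X.presheaf.germ U (i z) hz).hom) := by
      rw [CAlgH.RegImmStalk.ker_stalkMap_eq i z hU hz, hker, Ideal.map_ofList]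
    have hrs' : RingTheory.Sequence.IsRegular Γ(X, U) (show List Γ(X, U) from rs) := hrs
    refine ⟨_, ⟨IsWeaklyRegular.of_flat (S := X.presheaf.stalk (i z)) hrs'.toIsWeaklyRegular, ?_⟩, hk.symm⟩
    rw [smul_eq_mul, Ideal.mul_top]
    intro h0
    exact RingHom.ker_ne_top (i.stalkMap z).hom (hk.trans h0.symm)
  · intro h
    obtain ⟨⟨U, hU⟩, hzU, hc⟩ := CAlgH.KoszulDescentScheme.exists_closed_chart i z
    haveI : IsClosedImmersion (i ∣_ U) := hc
    let z' : (i ⁻¹ᵁ U : Z.Opens).toScheme := ⟨z, hzU⟩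
    have hι : U.ι ((i ∣_ U) z') = i z := congrArg (fun g => g z') (morphismRestrict_ι i U)
    haveI := isIso_tm U.ι hι
    haveI := isIso_tm (i ⁻¹ᵁ U).ι (x := z') (y := z) rfl
    let e : X.presheaf.stalk (i z) →+* U.toScheme.presheaf.stalk ((i ∣_ U) z') := (tm U.ι hι).hom
    have he : Function.Bijective e := ConcreteCategory.bijective_of_isIso (tm U.ι hι)
    have hk : RingHom.ker ((i ∣_ U).stalkMap z').hom = (RingHom.ker (i.stalkMap z).hom).map e := by
      have h1 := tm_factor (f := i ∣_ U) (g := U.ι) (k := (i ⁻¹ᵁ U).ι ≫ i) (morphismRestrict_ι i U)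
        (x := z') (y := (i ∣_ U) z') (z := i z) rfl hι rfl
      have h2 := tm_factor (f := (i ⁻¹ᵁ U).ι) (g := i) (k := (i ⁻¹ᵁ U).ι ≫ i) rfl
        (x := z') (y := z) (z := i z) rfl rfl rfl
      rw [tm_self (i ∣_ U)] at h1
      rw [tm_self i] at h2
      have h3 : ((i ∣_ U).stalkMap z').hom.comp e =
          (tm (i ⁻¹ᵁ U).ι (x := z') (y := z) rfl).hom.comp (i.stalkMap z).hom :=
        congrArg CommRingCat.Hom.hom (h1.trans h2.symm)
      have h4 : RingHom.ker (i.stalkMap z).hom = (RingHom.ker ((i ∣_ U).stalkMap z').hom).comap e := by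
        rw [RingHom.comap_ker, h3, RingHom.ker_comp_of_injective _ (ConcreteCategory.bijective_of_isIso _).1]
      rw [h4, Ideal.map_comap_of_surjective e he.2]
    have h' : CInt.IsRegularIdeal (RingHom.ker ((i ∣_ U).stalkMap z').hom) :=
      hk ▸ CAlgH.CIPresentation.isRegularIdeal_map_equiv (RingEquiv.ofBijective e he) h
    obtain ⟨ls, hls, hlsk⟩ := h'
    obtain ⟨V, hzV, hcV, hV⟩ := (SDiv28.RegSpread.iff_ker_stalk (i ∣_ U) z').2 ⟨ls, hls, hlsk.symm⟩
    obtain ⟨W, hW, hzW, rs, hrs, hker⟩ := hV ⟨z', hzV⟩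
    rw [Scheme.Hom.ker_apply (f := (i ∣_ U) ∣_ V), SDiv28.RegSpread.ker_restrict_app,
      SDiv28.RegSpread.ker_restrict_app] at hker
    refine ⟨⟨U.ι ''ᵁ (V.ι ''ᵁ W), (hW.image_of_isOpenImmersion V.ι).image_of_isOpenImmersion U.ι⟩,
      ⟨(i ∣_ U) z', ⟨((i ∣_ U) ∣_ V) ⟨z', hzV⟩, hzW,
        congrArg (fun g => g ⟨z', hzV⟩) (morphismRestrict_ι (i ∣_ U) V)⟩, hι⟩, ?_, rs, hrs, hker⟩
    haveI : IsClosedImmersion ((i ∣_ U) ∣_ V) := hcV
    have h1 : IsClosedImmersion (((i ∣_ U) ∣_ V) ∣_ W) := IsZariskiLocalAtTarget.restrict hcV W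
    have h2 := (MorphismProperty.arrow_mk_iso_iff @IsClosedImmersion
      (morphismRestrictRestrict (i ∣_ U) V W)).1 h1
    exact (MorphismProperty.arrow_mk_iso_iff @IsClosedImmersion
      (morphismRestrictRestrict i U (V.ι ''ᵁ W))).1 h2

end Groth.Agent.RegTfae28
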