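import Groth.Agent.RegTfae28.Bridge
import Groth.Agent.RegCancelH2.Main
import Groth.Agent.Coherent.Existence.SysKernel
import Groth.Agent.H8Coh.RpushVanishBC

/-! The conormal sequence near a point where the first immersion is regular. -/

set_option autoImplicit false
set_option backward.isDefEq.respectTransparency.types false
set_option backward.isDefEq.respectTransparency false
set_option linter.style.haveILetI false
universe u

open CategoryTheory CategoryTheory.Limits AlgebraicGeometry TopologicalSpace Opposite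
open scoped TensorProduct

noncomputable section

namespace Groth.Agent.RegTfae28

open OmegaLib Thick15 Omega15 RegImmH1

variable {Z Y X : Scheme.{u}}

theorem exists_h1_of_regular [IsLocallyNoetherian Y] (i : Z ⟶ Y) [IsImmersion i] (z : Z)
    (h : RegImm.IsRegularImmersionAt RegImm.Kind.regular i z) :
    ∃ (n : ℕ) (g : Fin n → Y.presheaf.stalk (i z)),
      CAlgX.IsH1Regular g ∧ RingHom.ker (i.stalkMap z).hom = Ideal.span (Set.range g) := by
  obtain ⟨rs, hrs, hk⟩ := (isRegularImmersionAt_iff i z).1 h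
  refine ⟨rs.length, rs.get, SDiv28.RegSeq.seq_of_koszul (SDiv28.RegSeq.seq_koszul_of_regular hrs.toIsWeaklyRegular), ?_⟩
  rw [← hk, Set.range_list_get]

/-- The conormal sequence at a stalk. -/
theorem stalk_facts (i : Z ⟶ Y) (j : Y ⟶ X) [IsImmersion i] [IsImmersion j]
    [QuasiCompact i] [QuasiCompact j]
    (a : (Scheme.Modules.pullback i).obj (Omega.conormal j) ⟶ Omega.conormal (i ≫ j))
    (ha : OmegaSh.IsConormalMap (i ≫ j) j (𝟙 X) i a)
    (b : (Scheme.Modules.pullback (𝟙 Z)).obj (Omega.conormal (i ≫ j)) ⟶ Omega.conormal i)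
    (hb : OmegaSh.IsConormalMap i (i ≫ j) j (𝟙 Z) b) (z : Z) :
    (∀ v, (DerSch.stalkFunctor Z z).map ((Scheme.Modules.pullback (𝟙 Z)).map a ≫ b) v = 0) ∧
      (∀ v, (DerSch.stalkFunctor Z z).map b v = 0 →
        ∃ u, (DerSch.stalkFunctor Z z).map ((Scheme.Modules.pullback (𝟙 Z)).map a) u = v) ∧
      Function.Surjective ((DerSch.stalkFunctor Z z).map b) ∧
      ((∃ (n : ℕ) (g : Fin n → Y.presheaf.stalk (i z)),
          CAlgX.IsH1Regular g ∧ RingHom.ker (i.stalkMap z).hom = Ideal.span (Set.range g)) →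
        ∀ u, (DerSch.stalkFunctor Z z).map a u = 0 → u = 0) := by
  obtain ⟨πj, hπj⟩ := exists_pi j (i z) (y := j (i z)) rfl
  obtain ⟨π, hπ⟩ := exists_pi (i ≫ j) z (y := j (i z)) rfl
  obtain ⟨πi, hπi⟩ := exists_pi i z (y := i z) rfl
  obtain ⟨PI, hPIs, hPI, hPIl⟩ := exists_pullStalk i (Omega.conormal j) z
  obtain ⟨PA, hPAs, hPA⟩ := exists_pullId ((Scheme.Modules.pullback i).obj (Omega.conormal j)) z
  obtain ⟨PB, hPBs, hPB⟩ := exists_pullId (Omega.conormal (i ≫ j)) z
  let p : X.presheaf.stalk (j (i z)) →+* Y.presheaf.stalk (i z) := (tm j (x := i z) rfl).hom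
  have hp : Function.Surjective p := tm_surjective j (p := i z) rfl
  have hq : ∀ r, (tm (i ≫ j) (x := z) (y := j (i z)) rfl).hom r = (i.stalkMap z).hom (p r) := fun r => by
    have h := congr($(tm_factor (f := i) (g := j) (k := i ≫ j) rfl (x := z) (y := i z) rfl rfl rfl) r)
    rw [tm_self i z] at h
    exact h.symm
  have hJ : RingHom.ker (tm (i ≫ j) (x := z) (y := j (i z)) rfl).hom =
      (RingHom.ker (i.stalkMap z).hom).comap p := by
    ext r
    rw [Ideal.mem_comap, RingHom.mem_ker, RingHom.mem_ker, hq]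
  have hI : RingHom.ker p ≤ RingHom.ker (tm (i ≫ j) (x := z) (y := j (i z)) rfl).hom := fun r hr => by
    rw [RingHom.mem_ker, hq, RingHom.mem_ker.1 hr, map_zero]
  have hA : ∀ x : RingHom.ker p, (DerSch.stalkFunctor Z z).map a (PI (πj x)) = π ⟨x.1, hI x.2⟩ := fun x => by
    refine (pi_conormalMap ha z (y := j (i z)) rfl (y' := j (i z)) rfl rfl hπ hπj hPI x).trans ?_
    exact congrArg π (Subtype.ext (tm_id_apply _ _))
  have hB : ∀ x : RingHom.ker (tm (i ≫ j) (x := z) (y := j (i z)) rfl).hom,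
      ∃ h : p x.1 ∈ RingHom.ker (tm i (x := z) rfl).hom,
        (DerSch.stalkFunctor Z z).map b (PB (π x)) = πi ⟨p x.1, h⟩ := fun x =>
    ⟨_, pi_conormalMap hb z (y := i z) rfl (y' := j (i z)) rfl rfl hπi hπ hPB x⟩
  have hnat : ∀ u, (DerSch.stalkFunctor Z z).map ((Scheme.Modules.pullback (𝟙 Z)).map a) (PA u) =
      PB ((DerSch.stalkFunctor Z z).map a u) := fun u => pullId_naturality a z hPA hPB u
  refine ⟨fun v => ?_, fun v hv => ?_, fun v => ?_, ?_⟩
  · obtain ⟨u, rfl⟩ := hPAs v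
    obtain ⟨m, rfl⟩ := hPIs u
    obtain ⟨x, rfl⟩ := hπj.1 m
    rw [Functor.map_comp]
    show (DerSch.stalkFunctor Z z).map b
      ((DerSch.stalkFunctor Z z).map ((Scheme.Modules.pullback (𝟙 Z)).map a) (PA (PI (πj x)))) = 0
    rw [hnat, hA]
    obtain ⟨h, e⟩ := hB ⟨x.1, hI x.2⟩
    rw [e]
    exact (hπi.2.1 _).2 (by
      show p x.1 ∈ _
      rw [RingHom.mem_ker.1 x.2]; exact zero_mem _)
  · obtain ⟨m, rfl⟩ := hPBs v
    obtain ⟨x, rfl⟩ := hπ.1 m
    obtain ⟨h, e⟩ := hB x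
    rw [e] at hv
    have h1 : p x.1 ∈ RingHom.ker (tm i (x := z) rfl).hom ^ 2 := (hπi.2.1 _).1 hv
    have hmap : (RingHom.ker (tm (i ≫ j) (x := z) (y := j (i z)) rfl).hom).map p =
        RingHom.ker (tm i (x := z) rfl).hom := by
      rw [hJ, Ideal.map_comap_of_surjective p hp, tm_self]
    rw [← hmap, ← Ideal.map_pow, Ideal.mem_map_iff_of_surjective p hp] at h1
    obtain ⟨s, hs, hse⟩ := h1
    have hd : x.1 - s ∈ RingHom.ker p := by rw [RingHom.mem_ker, map_sub, hse, sub_self]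
    refine ⟨PA (PI (πj ⟨_, hd⟩)), ?_⟩
    rw [hnat, hA]
    refine congrArg PB ?_
    have hs' : s ∈ RingHom.ker (tm (i ≫ j) (x := z) (y := j (i z)) rfl).hom := Ideal.pow_le_self two_ne_zero hs
    have hsum : π x = π ⟨s, hs'⟩ + π ⟨x.1 - s, hI hd⟩ :=
      (congrArg π (Subtype.ext (add_sub_cancel _ _).symm)).trans (map_add π _ _)
    exact ((hsum.trans (congrArg (· + _) ((hπ.2.1 ⟨s, hs'⟩).2 hs))).trans (zero_add _)).symm
  · obtain ⟨⟨y, hy⟩, rfl⟩ := hπi.1 v
    obtain ⟨r, rfl⟩ := hp y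
    have hr : r ∈ RingHom.ker (tm (i ≫ j) (x := z) (y := j (i z)) rfl).hom := by
      rw [RingHom.mem_ker, hq]
      rw [RingHom.mem_ker, tm_self] at hy
      exact hy
    obtain ⟨h, e⟩ := hB ⟨r, hr⟩
    exact ⟨PB (π ⟨r, hr⟩), e⟩
  · rintro ⟨n, g, hg, hgk⟩ u hu
    obtain ⟨m, rfl⟩ := hPIs u
    obtain ⟨x, rfl⟩ := hπj.1 m
    rw [hA] at hu
    have h2 := mem_mul_of_mem_sq p hp hg (hgk ▸ hJ) ((hπ.2.1 _).1 hu) x.2
    suffices ∀ y ∈ RingHom.ker (tm (i ≫ j) (x := z) (y := j (i z)) rfl).hom * RingHom.ker p,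
        ∃ h : y ∈ RingHom.ker p, PI (πj ⟨y, h⟩) = 0 by
      obtain ⟨_, h⟩ := this x.1 h2
      exact h
    intro y hy
    refine Submodule.mul_induction_on hy (fun r hr s hs => ?_) fun y y' hy hy' => ?_
    · refine ⟨Ideal.mul_mem_left _ r hs, ?_⟩
      rw [show (⟨r * s, Ideal.mul_mem_left _ r hs⟩ : RingHom.ker p) = r • ⟨s, hs⟩ from rfl,
        hπj.2.2.1, hPIl, show (i.stalkMap z) ((tm j (x := i z) rfl) r) = 0 from (hq r).symm.trans hr, zero_smul]
    · obtain ⟨h, e⟩ := hy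
      obtain ⟨h', e'⟩ := hy'
      refine ⟨add_mem h h', ?_⟩
      rw [show (⟨y + y', add_mem h h'⟩ : RingHom.ker p) = ⟨y, h⟩ + ⟨y', h'⟩ from rfl, map_add, map_add, e, e',
        add_zero]

/-- The conormal sequence is right exact. -/
theorem conormal_rightExact (i : Z ⟶ Y) (j : Y ⟶ X) [IsImmersion i] [IsImmersion j]
    [QuasiCompact i] [QuasiCompact j]
    (a : (Scheme.Modules.pullback i).obj (Omega.conormal j) ⟶ Omega.conormal (i ≫ j))
    (ha : OmegaSh.IsConormalMap (i ≫ j) j (𝟙 X) i a)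
    (b : (Scheme.Modules.pullback (𝟙 Z)).obj (Omega.conormal (i ≫ j)) ⟶ Omega.conormal i)
    (hb : OmegaSh.IsConormalMap i (i ≫ j) j (𝟙 Z) b) :
    ∃ w : a ≫ ((Scheme.Modules.pullbackId Z).inv.app (Omega.conormal (i ≫ j)) ≫ b) = 0,
      (ShortComplex.mk a ((Scheme.Modules.pullbackId Z).inv.app (Omega.conormal (i ≫ j)) ≫ b) w).Exact ∧
      Epi ((Scheme.Modules.pullbackId Z).inv.app (Omega.conormal (i ≫ j)) ≫ b) := by
  have main := fun z => stalk_facts i j a ha b hb z
  let η := (Scheme.Modules.pullbackId Z).inv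
  have hnat' : a ≫ η.app (Omega.conormal (i ≫ j)) =
      η.app _ ≫ (Scheme.Modules.pullback (𝟙 Z)).map a := η.naturality a
  have w' : (Scheme.Modules.pullback (𝟙 Z)).map a ≫ b = 0 := hom_eq_zero_of_stalks _ fun z => (main z).1
  have w : a ≫ (η.app (Omega.conormal (i ≫ j)) ≫ b) = 0 := by
    rw [← Category.assoc, hnat', Category.assoc, w', comp_zero]
  haveI : Epi b := epi_of_stalks b fun z => (main z).2.2.1
  have hex : (ShortComplex.mk ((Scheme.Modules.pullback (𝟙 Z)).map a) b w').Exact :=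
    exact_of_stalks _ fun z => (main z).2.1
  exact ⟨w, (ShortComplex.exact_iff_of_iso (ShortComplex.isoMk
    (S₁ := ShortComplex.mk a (η.app (Omega.conormal (i ≫ j)) ≫ b) w)
    (S₂ := ShortComplex.mk ((Scheme.Modules.pullback (𝟙 Z)).map a) b w')
    ((Scheme.Modules.pullbackId Z).symm.app _) ((Scheme.Modules.pullbackId Z).symm.app _) (Iso.refl _)
    hnat'.symm (Category.comp_id _).symm)).2 hex, epi_comp _ _⟩

/-- Maps out of the structure sheaf are determined by their value at `1`. -/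
theorem structureModule_hom_ext {M : X.Modules} {φ ψ : Coh.structureModule X ⟶ M}
    (h : φ.app ⊤ (1 : Γ(X, ⊤)) = ψ.app ⊤ (1 : Γ(X, ⊤))) : φ = ψ := by
  refine Scheme.Modules.hom_ext _ _ fun V => ?_
  ext r
  rw [Coherent.app_unit, Coherent.app_unit, ← Coherent.resM_unitVal φ le_top, ← Coherent.resM_unitVal ψ le_top,
    show Coherent.unitVal φ ⊤ = Coherent.unitVal ψ ⊤ from h]

/-- An epimorphism onto a free module over an affine scheme has a section. -/
theorem exists_section [IsAffine X] {M N : X.Modules} [Coh.IsQCoh M] [Coh.IsQCoh N] (p : M ⟶ N) [Epi p] {n : ℕ}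
    (e : N ≅ FlatMod.freeMod X n) : ∃ σ : N ⟶ M, σ ≫ p = 𝟙 N := by
  let e' := e ≪≫ (Props12.freeModIso X n).symm
  have hsur := Coherent.Existence.app_surjective_of_epi p (isAffineOpen_top X)
  choose m hm using fun k => hsur (Coherent.unitVal (Coherent.freeInj k ≫ e'.inv) ⊤)
  refine ⟨e'.hom ≫ Coherent.freeDesc fun k => Coherent.unitDesc M (m k), ?_⟩
  rw [← cancel_epi e'.inv, Category.assoc, e'.inv_hom_id_assoc, Category.comp_id]
  refine Coherent.freeMod_hom_ext fun k => ?_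
  rw [Coherent.freeInj_freeDesc_assoc]
  refine structureModule_hom_ext ?_
  show p.app ⊤ (Coherent.unitVal (Coherent.unitDesc M (m k)) ⊤) = Coherent.unitVal (Coherent.freeInj k ≫ e'.inv) ⊤
  rw [Coherent.unitVal_unitDesc, show Coherent.resM M (le_refl ⊤) (m k) = m k from
    ConcreteCategory.congr_hom (M.presheaf.map_id _) _, hm]

/-- The conormal sheaf is free on a regular chart. -/
theorem exists_chart_free [IsLocallyNoetherian Y] (i : Z ⟶ Y) [IsImmersion i] [QuasiCompact i] (z : Z)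
    (h : RegImm.IsRegularImmersionAt RegImm.Kind.regular i z) :
    ∃ (V : Z.Opens) (n : ℕ), z ∈ V ∧ IsAffineOpen V ∧
      (∀ w ∈ V, RegImm.IsRegularImmersionAt RegImm.Kind.regular i w) ∧
      Nonempty ((Scheme.Modules.restrictFunctor V.ι).obj (Omega.conormal i) ≅ FlatMod.freeMod V.toScheme n) := by
  obtain ⟨⟨W, hW⟩, hxW, hc, rs, hrs, hker⟩ := h
  haveI : IsClosedImmersion (i ∣_ W) := hc
  haveI : IsAffine (W : Scheme.{u}) := hW
  have hV : IsAffineOpen (i ⁻¹ᵁ W) := isAffine_of_isAffineHom (i ∣_ W)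
  let τ : Γ(Y, W) →+* Γ((W : Scheme.{u}), ⊤) := W.topIso.inv.hom
  have hfl : τ.Flat := RingHom.Flat.of_bijective (ConcreteCategory.bijective_of_isIso W.topIso.inv)
  have key : ∀ {V : Y.Opens} (hV : W.ι ''ᵁ ⊤ = V),
      RingHom.ker (i ∣_ W).appTop.hom = (RingHom.ker (i.app V).hom).map (Y.presheaf.map (eqToHom hV).op).hom := by
    rintro V rfl
    show RingHom.ker ((i ∣_ W).app ⊤).hom = _
    rw [morphismRestrict_app, CommRingCat.hom_comp,
      RingHom.ker_comp_of_injective _ (ConcreteCategory.bijective_of_isIso _).1]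
    simp
  have hk : RingHom.ker (i ∣_ W).appTop.hom = Ideal.span (Set.range fun k => τ (rs.get k)) := by
    rw [key (Scheme.Opens.ι_image_top W), hker, Ideal.map_ofList]
    show Ideal.ofList _ = Ideal.span (Set.range fun k => τ (rs.get k))
    rw [Ideal.ofList]
    congr 1
    ext a
    simp only [List.mem_map, Set.mem_range]
    constructor
    · rintro ⟨c, hc, rfl⟩
      obtain ⟨k, rfl⟩ := List.mem_iff_get.1 hc
      exact ⟨k, rfl⟩
    · rintro ⟨k, rfl⟩
      exact ⟨rs.get k, List.get_mem _ _, rfl⟩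
  have hh1 : CAlgX.IsH1Regular rs.get :=
    SDiv28.RegSeq.seq_of_koszul (SDiv28.RegSeq.seq_koszul_of_regular
      (show RingTheory.Sequence.IsRegular Γ(Y, W) (show List Γ(Y, W) from rs) from hrs).toIsWeaklyRegular)
  have hrs' : CAlgX.IsH1Regular fun k : Fin rs.length => τ (rs.get k) := by
    letI := τ.toAlgebra
    haveI : Module.Flat Γ(Y, W) Γ((W : Scheme.{u}), ⊤) := hfl
    exact SDiv28.RegSeq.isH1Regular_map (S := Γ((W : Scheme.{u}), ⊤)) hh1
  obtain ⟨ef⟩ := exists_iso_freeMod_conormal (i ∣_ W) _ hrs' hk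
  have sq : IsPullback (i ∣_ W) (i ⁻¹ᵁ W).ι W.ι i := isPullback_morphismRestrict i W
  obtain ⟨θ, hθ⟩ := exists_conormalMap (i := i ∣_ W) (i' := i) (g := W.ι) (gZ := (i ⁻¹ᵁ W).ι) sq.w.symm
  haveI : IsIso θ := (S9372.result (i ∣_ W) i W.ι (i ⁻¹ᵁ W).ι sq θ hθ).2 inferInstance
  exact ⟨i ⁻¹ᵁ W, rs.length, hxW, hV, fun w hw => ⟨⟨W, hW⟩, hw, hc, rs, hrs, hker⟩,
    ⟨(Scheme.Modules.restrictFunctorIsoPullback (i ⁻¹ᵁ W).ι).app _ ≪≫ asIso θ ≪≫ ef⟩⟩

/-- The conormal sequence is split short exact near a point where the first immersion is regular. -/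
theorem exists_splitting_nhd [IsLocallyNoetherian Y] (i : Z ⟶ Y) (j : Y ⟶ X) [IsImmersion i] [IsImmersion j]
    [QuasiCompact i] [QuasiCompact j]
    (a : (Scheme.Modules.pullback i).obj (Omega.conormal j) ⟶ Omega.conormal (i ≫ j))
    (ha : OmegaSh.IsConormalMap (i ≫ j) j (𝟙 X) i a)
    (b : (Scheme.Modules.pullback (𝟙 Z)).obj (Omega.conormal (i ≫ j)) ⟶ Omega.conormal i)
    (hb : OmegaSh.IsConormalMap i (i ≫ j) j (𝟙 Z) b) (z : Z)
    (h : RegImm.IsRegularImmersionAt RegImm.Kind.regular i z) :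
    ∃ U : Z.Opens, z ∈ U ∧
      ∀ w : (Scheme.Modules.restrictFunctor U.ι).map a ≫ (Scheme.Modules.restrictFunctor U.ι).map ((Scheme.Modules.pullbackId Z).inv.app (Omega.conormal (i ≫ j)) ≫ b) = 0,
        Nonempty (ShortComplex.mk ((Scheme.Modules.restrictFunctor U.ι).map a) ((Scheme.Modules.restrictFunctor U.ι).map ((Scheme.Modules.pullbackId Z).inv.app (Omega.conormal (i ≫ j)) ≫ b)) w).Splitting := by
  obtain ⟨V, n, hzV, hV, hreg, ⟨e⟩⟩ := exists_chart_free i z h
  refine ⟨V, hzV, fun w => ?_⟩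
  obtain ⟨w₀, hex, hepi⟩ := conormal_rightExact i j a ha b hb
  let g : Omega.conormal (i ≫ j) ⟶ Omega.conormal i :=
    (Scheme.Modules.pullbackId Z).inv.app (Omega.conormal (i ≫ j)) ≫ b
  haveI : Epi g := hepi
  haveI : IsAffine V.toScheme := hV
  have hst : ∀ (x : V.toScheme) {M N : Z.Modules} (ψ : M ⟶ N) (v),
      RegCancelH2.stE V x.2 N ((DerSch.stalkFunctor V.toScheme x).map ((Scheme.Modules.restrictFunctor V.ι).map ψ) v) =
        (DerSch.stalkFunctor Z x.1).map ψ (RegCancelH2.stE V x.2 M v) := fun x M N ψ v => by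
    have h1 := RegCancelH2.openStalk_map V x.2 ψ (RegCancelH2.stE V x.2 M v)
    refine Eq.trans ?_ h1
    exact congrArg (fun t => RegCancelH2.stE V x.2 N
      ((DerSch.stalkFunctor V.toScheme x).map ((Scheme.Modules.restrictFunctor V.ι).map ψ) t))
      ((RegCancelH2.stE V x.2 M).symm_apply_apply v).symm
  haveI : Mono ((Scheme.Modules.restrictFunctor V.ι).map a) := mono_of_stalks_injective _ fun x =>
    (injective_iff_map_eq_zero _).2 fun v hv => (RegCancelH2.stE V x.2 _).map_eq_zero_iff.1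
      ((stalk_facts i j a ha b hb x.1).2.2.2 (exists_h1_of_regular i x.1 (hreg x.1 x.2)) _
        (by rw [← hst x a v, hv, map_zero]))
  haveI : Epi ((Scheme.Modules.restrictFunctor V.ι).map g) := epi_of_stalks _ fun x v => by
    obtain ⟨u, hu⟩ := (ModuleCat.epi_iff_surjective ((DerSch.stalkFunctor Z x.1).map g)).1 inferInstance
        (RegCancelH2.stE V x.2 _ v)
    exact ⟨(RegCancelH2.stE V x.2 _).symm u, (RegCancelH2.stE V x.2 _).injective
      (by rw [hst, AddEquiv.apply_symm_apply, hu])⟩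
  have hex' : (ShortComplex.mk ((Scheme.Modules.restrictFunctor V.ι).map a)
      ((Scheme.Modules.restrictFunctor V.ι).map g) w).Exact := exact_of_stalks _ fun x v hv => by
    have hz := (ShortComplex.moduleCat_exact_iff _).1 (hex.map (DerSch.stalkFunctor Z x.1))
    obtain ⟨u, hu⟩ := hz (RegCancelH2.stE V x.2 _ v) (by
      show (DerSch.stalkFunctor Z x.1).map g (RegCancelH2.stE V x.2 _ v) = 0
      rw [← hst x g v, show (DerSch.stalkFunctor V.toScheme x).map ((Scheme.Modules.restrictFunctor V.ι).map g) v = 0 from hv,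
        map_zero])
    exact ⟨(RegCancelH2.stE V x.2 _).symm u, (RegCancelH2.stE V x.2 _).injective
      (by rw [hst, AddEquiv.apply_symm_apply]; exact hu)⟩
  haveI := isQCoh_conormal i
  haveI := isQCoh_conormal (i ≫ j)
  haveI : Coh.IsQCoh ((Scheme.Modules.restrictFunctor V.ι).obj (Omega.conormal i)) :=
    H8Coh.isQCoh_restrictOpen V (Omega.conormal i)
  haveI : Coh.IsQCoh ((Scheme.Modules.restrictFunctor V.ι).obj (Omega.conormal (i ≫ j))) :=
    H8Coh.isQCoh_restrictOpen V (Omega.conormal (i ≫ j))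
  obtain ⟨σ, hσ⟩ := exists_section ((Scheme.Modules.restrictFunctor V.ι).map g) e
  exact ⟨ShortComplex.Splitting.ofExactOfSection _ hex' σ hσ inferInstance⟩

end Groth.Agent.RegTfae28
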