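import Groth.Agent.RegTfae28.Algebra
import Groth.Agent.RegTfae28.Seq

/-! The three conditions on a pair of immersions. -/

set_option autoImplicit false
set_option backward.isDefEq.respectTransparency.types false
set_option backward.isDefEq.respectTransparency false
set_option linter.style.haveILetI false
universe u

open CategoryTheory CategoryTheory.Limits AlgebraicGeometry TopologicalSpace IsLocalRing

noncomputable section

namespace Groth.Agent.RegTfae28

open Thick15 Omega15

theorem tfae {Z Y X : Scheme.{u}} (i : Z ⟶ Y) (j : Y ⟶ X) [IsImmersion i] [IsImmersion j]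
    [QuasiCompact i] [QuasiCompact j]
    (a : (Scheme.Modules.pullback i).obj (Omega.conormal j) ⟶ Omega.conormal (i ≫ j))
    (ha : OmegaSh.IsConormalMap (i ≫ j) j (𝟙 X) i a)
    (b : (Scheme.Modules.pullback (𝟙 Z)).obj (Omega.conormal (i ≫ j)) ⟶ Omega.conormal i)
    (hb : OmegaSh.IsConormalMap i (i ≫ j) j (𝟙 Z) b)
    [IsLocallyNoetherian X] (z : ↥Z) :
    ((RegImm.IsRegularImmersionAt RegImm.Kind.regular i z ∧ RegImm.IsRegularImmersionAt RegImm.Kind.regular j (i z)) ↔
      (RegImm.IsRegularImmersionAt RegImm.Kind.regular i z ∧ RegImm.IsRegularImmersionAt RegImm.Kind.regular (i ≫ j) z)) ∧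
    ((RegImm.IsRegularImmersionAt RegImm.Kind.regular i z ∧ RegImm.IsRegularImmersionAt RegImm.Kind.regular (i ≫ j) z) ↔
      (RegImm.IsRegularImmersionAt RegImm.Kind.regular (i ≫ j) z ∧
        ∃ U : Z.Opens, z ∈ U ∧
          ∀ w : (Scheme.Modules.restrictFunctor U.ι).map a ≫ (Scheme.Modules.restrictFunctor U.ι).map ((Scheme.Modules.pullbackId Z).inv.app (Omega.conormal (i ≫ j)) ≫ b) = 0,
            Nonempty (ShortComplex.mk ((Scheme.Modules.restrictFunctor U.ι).map a) ((Scheme.Modules.restrictFunctor U.ι).map ((Scheme.Modules.pullbackId Z).inv.app (Omega.conormal (i ≫ j)) ≫ b)) w).Splitting)) := by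
  haveI := AlgebraicGeometry.LocallyOfFiniteType.isLocallyNoetherian j
  have hπ : Function.Surjective (j.stalkMap (i z)).hom := j.stalkMap_surjective (i z)
  have hcomp : RingHom.ker ((i ≫ j).stalkMap z).hom =
      (RingHom.ker (i.stalkMap z).hom).comap (j.stalkMap (i z)).hom := by
    rw [Scheme.Hom.stalkMap_comp]
    exact (RingHom.comap_ker _ _).symm
  have hij : RegImm.IsRegularImmersionAt RegImm.Kind.regular (i ≫ j) z ↔
      CInt.IsRegularIdeal ((RingHom.ker (i.stalkMap z).hom).comap (j.stalkMap (i z)).hom) := by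
    rw [isRegularImmersionAt_iff]
    constructor <;> intro h
    · exact hcomp ▸ h
    · exact hcomp.symm ▸ h
  refine ⟨and_congr_right fun hi => ?_, fun h => ⟨h.2, exists_splitting_nhd i j a ha b hb z h.1⟩, ?_⟩
  · rw [hij, isRegularImmersionAt_iff j]
    exact ⟨fun hj => CAlgH.RegImmLocal.isRegularIdeal_comp _ hπ _ hj ((isRegularImmersionAt_iff i z).1 hi),
      fun h => CAlgH.RegImmLocal.isRegularIdeal_ker_of_comp _ hπ _ ((isRegularImmersionAt_iff i z).1 hi) h⟩
  · rintro ⟨h, U, hzU, hU⟩
    refine ⟨?_, h⟩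
    obtain ⟨w, -, -⟩ := conormal_rightExact i j a ha b hb
    obtain ⟨s⟩ := hU (by rw [← Functor.map_comp, w, Functor.map_zero])
    have hs : (Scheme.Modules.restrictFunctor U.ι).map a ≫ s.r = 𝟙 _ := s.f_r
    have key : ∀ w ∈ RingHom.ker (j.stalkMap (i z)).hom,
        w ∈ maximalIdeal (X.presheaf.stalk (j (i z))) *
          (RingHom.ker (i.stalkMap z).hom).comap (j.stalkMap (i z)).hom →
        w ∈ maximalIdeal (X.presheaf.stalk (j (i z))) * RingHom.ker (j.stalkMap (i z)).hom := by
      intro w hwJ hwK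
      have h1 := RegCancelH2.stalk_inter i j a ha z (RegCancelH2.openStalk U hzU s.r)
        (fun u => by rw [← RegCancelH2.openStalk_map U hzU a, ← RegCancelH2.openStalk_comp, hs,
          RegCancelH2.openStalk_id]) (w := w)
      rw [tm_self j, tm_self (i ≫ j) z, hcomp] at h1
      exact h1 hwJ hwK
    exact (isRegularImmersionAt_iff i z).2 (isRegularIdeal_of_inter (j.stalkMap (i z)).hom hπ _
      (RingHom.ker_ne_top _) (hij.1 h) key).2

end Groth.Agent.RegTfae28
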